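import Mathlib
import Cfsg.Prelude.Def_BaumannBlocks
import Cfsg.Agent.Lib.BlockY.Facts
import Cfsg.Agent.Lib.BlockZ.Offender

/-! Piece CA of Z4 (S2987): trivial on `W/Z` implies in `Q`, resp. centralizing `V`; no subnormality needed. -/

namespace Cfsg.Agent.Lib.BlockZ
open Subgroup Cfsg
open Cfsg.Agent.Lib.PGroup.BaumannSect Cfsg.Agent.Lib.PGroup.BaumannNorm
open Cfsg.Agent.Lib.PGroup.LargeSub2 Cfsg.Agent.Lib.Basic.PCore
open Cfsg.Agent.Lib.PGroup.ThompsonG
open Cfsg.Agent.Lib.BlockY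
open scoped commutatorElement

variable {G : Type*} [Group G] [Finite G] {p : ℕ} [Fact p.Prime] {E : Subgroup G}

/-- copy of `BlockY.ker_V`, without the unused subnormality. -/
theorem ker_V_free (hG : centralizer (YY p G : Set G) ≤ YY p G) (T : Sylow p G)
    (hE : IsBaumannBlock p (T : Subgroup G) E) : ∀ e ∈ E, e ∈ centralizer (VV p E : Set G) → e ∈ QQ p E := by
  classical
  intro e he hc
  have hQE : pCoreOf p E ≤ E := pCoreOf_le E
  have hsub : (pCoreOf p E).subgroupOf E = pCore p ↥E :=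
    Subgroup.comap_map_eq_self_of_injective E.subtype_injective _
  rcases hE.2.2.2.2 with ⟨F', _, _, n, hc', hiso, hact, hQW | hexc⟩ | ⟨hp2, m, hiso, hact, hQW⟩
  · -- linear, non-exceptional
    obtain ⟨ψ, ρ, a1, a2, a3, a4, a5, a6, a7⟩ := Cfsg.Agent.Lib.BlockX.RawOf.extract hact
    have hN : Nat.card (↥E ⧸ (pCoreOf p E).subgroupOf E) =
        Nat.card ↥(commutator (Matrix.SpecialLinearGroup (Fin 2) F')) := by
      rw [hsub]
      exact Nat.card_congr hiso.some.toEquiv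
    have hk := Cfsg.Agent.Lib.BlockX.RawOf.rho_ker hQE hN a2 a4 a5 a6 a7 (by
      intro q hq u hu
      have : q * u * q⁻¹ = u := by
        rw [mem_centralizer_iff.1 (omegaOneCenter_le_cent _ hu) q hq]
        group
      rw [this])
    apply (hk e he).1
    apply Cfsg.Agent.Lib.BlockX.RawOf.eq_one_of_fix
    intro a
    obtain ⟨u, hu, rfl⟩ := a2 a
    rw [← a7 e he u hu]
    have hV : u ∈ VV p E := by
      rw [VV_eq_of_Q_eq_W hE.2.2.1 hQW, hQW]
      exact hu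
    have : e * u * e⁻¹ = u := by
      rw [(mem_centralizer_iff.1 hc u hV).symm]
      group
    rw [this]
  · -- exceptional
    obtain ⟨hp3, h2, h3, -, h4, h5, h6⟩ := hexc
    subst hp3
    have hn0 : n ≠ 0 := by
      rintro rfl
      have h1 : 1 < Fintype.card F' := Fintype.one_lt_card
      simp [hc'] at h1
    haveI : CharP F' 3 := charP_of_card_eq_prime_pow hc'
    obtain ⟨r⟩ := Cfsg.Agent.Lib.BlockX.raw_of_block hG T E hE hc' hiso hact h2 h3 h4 h5 h6
    have hdec := r.W_decomp.1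
    apply (r.ρ₁_ker e he).1
    apply Cfsg.Agent.Lib.BlockX.RawOf.eq_one_of_fix
    intro a
    obtain ⟨u, hu, rfl⟩ := r.ψ₁_surj a
    rw [← r.ρ₁_act e he u hu]
    obtain ⟨v, hv, z, hz, rfl⟩ := hdec u hu
    have h7 : e * (v * z) * e⁻¹ = v * z := by
      have h8 : e * v = v * e := (mem_centralizer_iff.1 hc v hv).symm
      have h9 : e * z = z * e := mem_centralizer_iff.1 hz.2 e he
      calc e * (v * z) * e⁻¹ = (e * v) * z * e⁻¹ := by group
        _ = v * (e * z) * e⁻¹ := by rw [h8]; group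
        _ = v * z := by rw [h9]; group
    rw [h7]
  · -- alternating
    have hm : m ≠ 0 := by
      rintro rfl
      exact not_alt_one hE hiso
    obtain ⟨hEU, hU₀, ρ, ψ, hρ, h_sum, hsurj, hker, heq⟩ := hact
    have h3n : 3 ≤ 2 * m + 1 := by omega
    have hfix : ∀ x : E, (∀ u ∈ omegaOneCenter p (pCoreOf p E), (x : G) * u * (x : G)⁻¹ = u) → ρ x = 1 := by
      intro x hx
      apply Cfsg.Agent.Lib.BlockY.FactsAux.perm_eq_one_of_fix h3n
      intro v hv i
      obtain ⟨u, hu⟩ := hsurj v hv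
      obtain ⟨w, hw, hw2⟩ := heq x u
      have h10 : w = u := Subtype.ext (by rw [hw]; exact hx u u.2)
      rw [h10, hu] at hw2
      exact (hw2 i).symm
    have hle : pCore p ↥E ≤ ρ.ker := by
      intro x hx
      rw [MonoidHom.mem_ker]
      apply hfix
      intro u hu
      have hq : (x : G) ∈ pCoreOf p E := ⟨x, hx, rfl⟩
      rw [mem_centralizer_iff.1 (omegaOneCenter_le_cent _ hu) _ hq]
      group
    have hcard : Nat.card ρ.ker = Nat.card (pCore p ↥E) := by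
      have h1 : (ρ.ker).index = Nat.card ρ.range := Subgroup.index_ker ρ
      have h2 : (pCore p ↥E).index = Nat.card ↥(alternatingGroup (Fin (2 * m + 1))) :=
        Nat.card_congr hiso.some.toEquiv
      have h3 := Subgroup.card_mul_index (ρ.ker)
      have h4 := Subgroup.card_mul_index (pCore p ↥E)
      rw [h1, hρ] at h3
      rw [h2] at h4
      have h5 : 0 < Nat.card ↥(alternatingGroup (Fin (2 * m + 1))) := Nat.card_pos
      exact Nat.eq_of_mul_eq_mul_right h5 (h3.trans h4.symm)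
    have hker' : pCore p ↥E = ρ.ker := Subgroup.eq_of_le_of_card_ge hle hcard.le
    have hρe : ρ ⟨e, he⟩ = 1 := by
      apply hfix
      intro u hu
      have hV : u ∈ VV p E := by
        rw [VV_eq_of_Q_eq_W hE.2.2.1 hQW, hQW]
        exact hu
      show e * u * e⁻¹ = u
      rw [(mem_centralizer_iff.1 hc u hV).symm]
      group
    have : (⟨e, he⟩ : E) ∈ pCore p ↥E := by
      rw [hker', MonoidHom.mem_ker]
      exact hρe
    exact ⟨_, this, rfl⟩

/-- the kernel on `V/(V ∩ Z)` -/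
theorem ker_VZ_free (hG : centralizer (YY p G : Set G) ≤ YY p G) (T : Sylow p G)
    (hE : IsBaumannBlock p (T : Subgroup G) E) {f : G} (hf : f ∈ E)
    (hfV : ∀ v ∈ VV p E, ⁅v, f⁆ ∈ centralizer (E : Set G)) : f ∈ QQ p E := by
  have hcE : ∀ c ∈ centralizer (E : Set G), ∀ e ∈ E, e * c * e⁻¹ = c := by
    intro c hc e he
    rw [(mem_centralizer_iff.1 hc e he)]; group
  let X : Subgroup G :=
    { carrier := {e | e ∈ E ∧ ∀ v ∈ VV p E, ⁅v, e⁆ ∈ centralizer (E : Set G)}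
      one_mem' := ⟨E.one_mem, fun v _ => by simp [one_mem]⟩
      mul_mem' := by
        rintro a b ⟨ha, ha'⟩ ⟨hb, hb'⟩
        refine ⟨E.mul_mem ha hb, fun v hv => ?_⟩
        have h1 : ⁅v, a * b⁆ = ⁅v, a⁆ * (a * ⁅v, b⁆ * a⁻¹) := by
          simp only [commutatorElement_def]; group
        rw [h1, hcE _ (hb' v hv) a ha]
        exact mul_mem (ha' v hv) (hb' v hv)
      inv_mem' := by
        rintro a ⟨ha, ha'⟩
        refine ⟨E.inv_mem ha, fun v hv => ?_⟩
        have h1 : ⁅v, a⁻¹⁆ = a⁻¹ * ⁅v, a⁆⁻¹ * a := by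
          simp only [commutatorElement_def]; group
        rw [h1]
        have h2 := hcE _ (inv_mem (ha' v hv)) a⁻¹ (E.inv_mem ha)
        rw [inv_inv] at h2
        rw [h2]
        exact inv_mem (ha' v hv) }
  have hXE : X ≤ E := fun x hx => hx.1
  have hVE : ∀ e ∈ E, ∀ v ∈ VV p E, e * v * e⁻¹ ∈ VV p E := fun e he v hv =>
    (mem_normalizer_iff.1 (norm_V (le_normalizer he)) v).1 hv
  have hXp : IsPGroup p X := by
    rintro ⟨x, hx, hxV⟩
    have hpow : x ^ p ∈ QQ p E := by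
      apply ker_V_free hG T hE _ (pow_mem hx p)
      rw [mem_centralizer_iff]
      intro v hv
      set d := ⁅v, x⁆ with hd
      have hdV : d ∈ VV p E := by
        rw [← V_idem hG T hE]
        exact commutator_mem_commutator hv hx
      have hdc : x * d = d * x := mem_centralizer_iff.1 (hxV v hv) x hx
      have h1 : x * v * x⁻¹ = d⁻¹ * v := by
        rw [hd, commutatorElement_def]; group
      have h2 : ∀ n : ℕ, x ^ n * v * (x ^ n)⁻¹ = d⁻¹ ^ n * v := by
        intro n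
        induction n with
        | zero => simp
        | succ n ih =>
          have h3 : x ^ (n + 1) * v * (x ^ (n + 1))⁻¹ = x * (x ^ n * v * (x ^ n)⁻¹) * x⁻¹ := by
            rw [pow_succ']; group
          rw [h3, ih]
          have h4 : x * (d⁻¹ ^ n * v) * x⁻¹ = (x * d⁻¹ ^ n * x⁻¹) * (x * v * x⁻¹) := by group
          have h5 : x * d⁻¹ ^ n * x⁻¹ = d⁻¹ ^ n := by
            have hc : Commute x (d⁻¹ ^ n) := ((show Commute x d from hdc).inv_right).pow_right n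
            rw [hc.eq]; group
          rw [h4, h5, h1, pow_succ, mul_assoc]
      have h3 := h2 p
      rw [inv_pow, V_pow hdV] at h3
      have h4 : x ^ p * v = v * x ^ p := by
        calc x ^ p * v = (x ^ p * v * (x ^ p)⁻¹) * x ^ p := by group
          _ = v * x ^ p := by rw [h3]; simp
      exact h4.symm
    obtain ⟨k, hk⟩ := (isPGroup_pCoreOf E) ⟨x ^ p, hpow⟩
    refine ⟨k + 1, ?_⟩
    apply Subtype.ext
    have h5 : (x ^ p) ^ p ^ k = 1 := by
      have := congrArg Subtype.val hk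
      simpa using this
    show x ^ p ^ (k + 1) = 1
    rw [pow_succ', pow_mul]
    exact h5
  have hXn : E ≤ normalizer (X : Set G) := by
    intro e he
    rw [mem_normalizer_iff]
    have key : ∀ e ∈ E, ∀ x ∈ X, e * x * e⁻¹ ∈ X := by
      intro e he x hx
      refine ⟨mul_mem (mul_mem he hx.1) (inv_mem he), fun v hv => ?_⟩
      have h1 : ⁅v, e * x * e⁻¹⁆ = e * ⁅e⁻¹ * v * e, x⁆ * e⁻¹ := by
        simp only [commutatorElement_def]; group
      rw [h1]
      have h2 : e⁻¹ * v * e ∈ VV p E := by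
        have := hVE e⁻¹ (inv_mem he) v hv
        simpa using this
      rw [hcE _ (hx.2 _ h2) e he]
      exact hx.2 _ h2
    intro x
    constructor
    · exact key e he x
    · intro h
      have := key e⁻¹ (inv_mem he) _ h
      have e1 : e⁻¹ * (e * x * e⁻¹) * e⁻¹⁻¹ = x := by group
      rwa [e1] at this
  exact (le_pCoreOf hXE hXp hXn) ⟨hf, hfV⟩

/-- step (a) in the offender argument: trivial on `V/(V ∩ Z)` means trivial on `V`. -/
theorem ker_of_norm_free (hG : centralizer (YY p G : Set G) ≤ YY p G) (T : Sylow p G)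
    (hE : IsBaumannBlock p (T : Subgroup G) E) {b : G}
    (hb : b ∈ normalizer (E : Set G)) (hbV : ∀ v ∈ VV p E, ⁅v, b⁆ ∈ centralizer (E : Set G)) :
    ∀ v ∈ VV p E, b * v = v * b := by
  set V := VV p E with hV
  set C := centralizer (E : Set G) with hC
  have hbV₁ : ∀ v ∈ V, b * v * b⁻¹ ∈ V := fun v hv => (mem_normalizer_iff.1 (norm_V hb) v).1 hv
  have hVE : ∀ e ∈ E, ∀ v ∈ V, e * v * e⁻¹ ∈ V := fun e he v hv =>
    (mem_normalizer_iff.1 (norm_V (le_normalizer he)) v).1 hv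
  have hVb' : ∀ v ∈ V, b⁻¹ * v * b ∈ V := by
    intro v hv
    have := (mem_normalizer_iff.1 (norm_V (inv_mem hb)) v).1 hv
    simpa using this
  have hCE : ∀ c ∈ C, ∀ e ∈ E, e * c = c * e := fun c hc e he => mem_centralizer_iff.1 hc e he
  have hDb : ∀ c ∈ C, b * c * b⁻¹ ∈ C := by
    intro c hc
    rw [hC, mem_centralizer_iff]
    intro e he
    have h1 : b⁻¹ * e * b ∈ E := by
      have := (mem_normalizer_iff.1 (inv_mem hb) e).1 he
      simpa using this
    have h2 := mem_centralizer_iff.1 hc _ h1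
    calc e * (b * c * b⁻¹) = b * ((b⁻¹ * e * b) * c) * b⁻¹ := by group
      _ = b * (c * (b⁻¹ * e * b)) * b⁻¹ := by rw [h2]
      _ = _ := by group
  have hDb' : ∀ c ∈ C, b⁻¹ * c * b ∈ C := by
    intro c hc
    rw [hC, mem_centralizer_iff]
    intro e he
    have h1 : b * e * b⁻¹ ∈ E := (mem_normalizer_iff.1 hb e).1 he
    have h2 := mem_centralizer_iff.1 hc _ h1
    calc e * (b⁻¹ * c * b) = b⁻¹ * ((b * e * b⁻¹) * c) * b := by group
      _ = b⁻¹ * (c * (b * e * b⁻¹)) * b := by rw [h2]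
      _ = _ := by group
  -- the commutator `⁅b, e⁆` lies in `Q`.
  have hbe : ∀ e ∈ E, b * e * b⁻¹ * e⁻¹ ∈ QQ p E := by
    intro e he
    have h1 : b * e * b⁻¹ ∈ E := (mem_normalizer_iff.1 hb e).1 he
    apply ker_VZ_free hG T hE (mul_mem h1 (inv_mem he))
    intro v hv
    -- a chain of congruences modulo `C`
    set u := e⁻¹ * v * e with hu
    have huV : u ∈ V := by
      have := hVE e⁻¹ (inv_mem he) v hv
      simpa using this
    -- `b⁻¹ u b = c₁ u`
    have hc₁ : u * (b⁻¹ * u * b)⁻¹ ∈ C := by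
      have h2 := hbV _ (hVb' u huV)
      have e1 : ⁅b⁻¹ * u * b, b⁆ = (b⁻¹ * u * b) * u⁻¹ := by
        rw [commutatorElement_def]; group
      rw [e1] at h2
      have h3 := inv_mem h2
      have e2 : ((b⁻¹ * u * b) * u⁻¹)⁻¹ = u * (b⁻¹ * u * b)⁻¹ := by group
      rwa [e2] at h3
    set c₁ := u * (b⁻¹ * u * b)⁻¹ with hc₁d
    have h2 : b⁻¹ * u * b = c₁⁻¹ * u := by rw [hc₁d]; group
    -- `e (b⁻¹ u b) e⁻¹ = c₁⁻¹ v`
    have h3 : e * (b⁻¹ * u * b) * e⁻¹ = c₁⁻¹ * v := by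
      rw [h2]
      have h4 : e * c₁⁻¹ = c₁⁻¹ * e := hCE _ (inv_mem hc₁) e he
      calc e * (c₁⁻¹ * u) * e⁻¹ = (e * c₁⁻¹) * u * e⁻¹ := by group
        _ = (c₁⁻¹ * e) * u * e⁻¹ := by rw [h4]
        _ = c₁⁻¹ * v := by rw [hu]; group
    have h5 : b * v * b⁻¹ = ⁅v, b⁆⁻¹ * v := by
      rw [commutatorElement_def]; group
    set f := b * e * b⁻¹ * e⁻¹ with hf
    have h6 : f * v * f⁻¹ = (b * c₁⁻¹ * b⁻¹) * ⁅v, b⁆⁻¹ * v := by
      calc f * v * f⁻¹ = b * (e * (b⁻¹ * u * b) * e⁻¹) * b⁻¹ := by rw [hf, hu]; group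
        _ = b * (c₁⁻¹ * v) * b⁻¹ := by rw [h3]
        _ = (b * c₁⁻¹ * b⁻¹) * (b * v * b⁻¹) := by group
        _ = _ := by rw [h5]; group
    have h7 : ⁅v, f⁆ = ((b * c₁⁻¹ * b⁻¹) * ⁅v, b⁆⁻¹)⁻¹ := by
      have e1 : ⁅v, f⁆ = v * (f * v * f⁻¹)⁻¹ := by rw [commutatorElement_def]; group
      rw [e1, h6]; group
    rw [h7]
    exact inv_mem (mul_mem (hDb _ (inv_mem hc₁)) (inv_mem (hbV v hv)))
  have hfin : V ≤ centralizer ({b} : Set G) := by
    rw [hV, ← V_idem hG T hE, ← hV, Subgroup.commutator_le]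
    intro v hv e he
    rw [mem_centralizer_iff]
    intro g hg
    rw [Set.mem_singleton_iff.1 hg]
    set c := b * e * b⁻¹ * e⁻¹ with hc
    have hcQ : c ∈ QQ p E := hbe e he
    have hcV : ∀ w ∈ V, c * w = w * c := fun w hw =>
      mem_centralizer_iff.1 (omegaOneCenter_le_cent _ (V_le_W hw)) c hcQ
    have hbee : b * e * b⁻¹ = c * e := by rw [hc]; group
    have hstar : ∀ w ∈ V, (b * e * b⁻¹) * w * (b * e * b⁻¹)⁻¹ = e * w * e⁻¹ := by
      intro w hw
      rw [hbee]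
      have h1 := hcV _ (hVE e he w hw)
      calc c * e * w * (c * e)⁻¹ = (c * (e * w * e⁻¹)) * c⁻¹ := by group
        _ = ((e * w * e⁻¹) * c) * c⁻¹ := by rw [h1]
        _ = _ := by group
    set δ := ⁅v, b⁆ with hδ
    have hδe : δ = v * (b * v * b⁻¹)⁻¹ := by rw [hδ, commutatorElement_def]; group
    have hδV : δ ∈ V := by
      rw [hδe]
      exact mul_mem hv (inv_mem (hbV₁ v hv))
    have hδC : δ ∈ C := hbV v hv
    have h1 : b * v * b⁻¹ = δ⁻¹ * v := by rw [hδ, commutatorElement_def]; group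
    have hbe' : b * e * b⁻¹ ∈ E := (mem_normalizer_iff.1 hb e).1 he
    have h2 : b * (e * v * e⁻¹) * b⁻¹ = δ⁻¹ * (e * v * e⁻¹) := by
      have hcomm : (b * e * b⁻¹) * δ⁻¹ = δ⁻¹ * (b * e * b⁻¹) := hCE _ (inv_mem hδC) _ hbe'
      calc b * (e * v * e⁻¹) * b⁻¹
          = (b * e * b⁻¹) * (b * v * b⁻¹) * (b * e * b⁻¹)⁻¹ := by group
        _ = (b * e * b⁻¹) * (δ⁻¹ * v) * (b * e * b⁻¹)⁻¹ := by rw [h1]
        _ = ((b * e * b⁻¹) * δ⁻¹) * v * (b * e * b⁻¹)⁻¹ := by group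
        _ = (δ⁻¹ * (b * e * b⁻¹)) * v * (b * e * b⁻¹)⁻¹ := by rw [hcomm]
        _ = δ⁻¹ * ((b * e * b⁻¹) * v * (b * e * b⁻¹)⁻¹) := by group
        _ = _ := by rw [hstar v hv]
    have hfix : b * ⁅v, e⁆ * b⁻¹ = ⁅v, e⁆ := by
      have e1 : ⁅v, e⁆ = v * (e * v * e⁻¹)⁻¹ := by rw [commutatorElement_def]; group
      have e2 : b * (v * (e * v * e⁻¹)⁻¹) * b⁻¹ = (b * v * b⁻¹) * (b * (e * v * e⁻¹) * b⁻¹)⁻¹ := by group
      rw [e1, e2, h1, h2]
      have hy : v * (e * v * e⁻¹)⁻¹ ∈ V := mul_mem hv (inv_mem (hVE e he v hv))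
      have c2 : δ * (v * (e * v * e⁻¹)⁻¹) = (v * (e * v * e⁻¹)⁻¹) * δ := V_comm hδV hy
      calc δ⁻¹ * v * (δ⁻¹ * (e * v * e⁻¹))⁻¹ = δ⁻¹ * ((v * (e * v * e⁻¹)⁻¹) * δ) := by group
        _ = δ⁻¹ * (δ * (v * (e * v * e⁻¹)⁻¹)) := by rw [c2]
        _ = _ := by group
    calc b * ⁅v, e⁆ = (b * ⁅v, e⁆ * b⁻¹) * b := by group
      _ = ⁅v, e⁆ * b := by rw [hfix]
  intro v hv
  exact (mem_centralizer_iff.1 (hfin hv) b (Set.mem_singleton b))


/-- CA1. `e ∈ E` trivial on `W/Z` is in `Q`. -/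
theorem mem_Q_of_bar (hG : centralizer (YY p G : Set G) ≤ YY p G) (T : Sylow p G)
    (hE : IsBaumannBlock p (T : Subgroup G) E) {e : G} (he : e ∈ E)
    (h : ∀ w ∈ WW p E, ⁅w, e⁆ ∈ ZZ p E) : e ∈ QQ p E :=
  ker_VZ_free hG T hE he fun v hv => (h v (V_le_W hv)).2

/-- CA2. `c ∈ N(E)` trivial on `W/Z` centralizes `V = ⁅W,E⁆`. -/
theorem lift_action (hG : centralizer (YY p G : Set G) ≤ YY p G) (T : Sylow p G)
    (hE : IsBaumannBlock p (T : Subgroup G) E) {c : G} (hc : c ∈ normalizer (E : Set G))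
    (h : ∀ w ∈ WW p E, ⁅w, c⁆ ∈ ZZ p E) : c ∈ centralizer (VV p E : Set G) := by
  rw [mem_centralizer_iff]
  intro v hv
  exact ((ker_of_norm_free hG T hE hc fun v hv => (h v (V_le_W hv)).2) v hv).symm

end Cfsg.Agent.Lib.BlockZ
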